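import Groth.Agent.Segre.Param
import Mathlib.RingTheory.NoetherNormalization
import Mathlib.RingTheory.Jacobson.Ring
import Mathlib.RingTheory.Localization.BaseChange
import Mathlib.RingTheory.KrullDimension.Polynomial
import Mathlib.RingTheory.FiniteType
import Mathlib.Algebra.CharP.Quotient
import Mathlib.Data.ZMod.Basic
import Mathlib.Algebra.Algebra.ZMod
import Mathlib.Algebra.Field.ZMod
import Mathlib.RingTheory.TensorProduct.Finite
import Mathlib.RingTheory.Localization.FractionRing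
import Mathlib.RingTheory.TensorProduct.Maps
import Mathlib.Data.Rat.Cast.CharZero
import Mathlib.Algebra.CharZero.Infinite
import Mathlib.RingTheory.Jacobson.Ideal
import Mathlib.RingTheory.Int.Basic
import Mathlib.Data.Nat.Prime.Infinite
import Mathlib.RingTheory.ZMod
import Mathlib.RingTheory.PrincipalIdealDomain

/-! Counting finite-field points of rings of finite type over `ℤ`. -/

set_option autoImplicit false

universe u v

open TensorProduct Polynomial

noncomputable section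

namespace LeadZeta

/-- `Hom(A, F)` is finite with at most `c * #F ^ e` elements -/
def Bound (A : Type u) [CommRing A] (F : Type v) [Field F] (c e : ℕ) : Prop :=
  Finite (A →+* F) ∧ Nat.card (A →+* F) ≤ c * Nat.card F ^ e

section basic

variable {A : Type u} [CommRing A]

lemma exists_gen [Algebra.FiniteType ℤ A] : ∃ s : Finset A, Algebra.adjoin ℤ (s : Set A) = ⊤ :=
  Algebra.FiniteType.out (R := ℤ) (A := A)

lemma ext_of_gen {s : Finset A} (hs : Algebra.adjoin ℤ (s : Set A) = ⊤) {F : Type v} [CommRing F]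
    {φ φ' : A →+* F} (h : ∀ a ∈ s, φ a = φ' a) : φ = φ' := by
  have := AlgHom.ext_of_adjoin_eq_top hs (φ₁ := φ.toIntAlgHom) (φ₂ := φ'.toIntAlgHom) fun a ha => h a ha
  exact congrArg AlgHom.toRingHom this

lemma finite_hom [Algebra.FiniteType ℤ A] (F : Type v) [CommRing F] [Finite F] : Finite (A →+* F) := by
  obtain ⟨s, hs⟩ := exists_gen (A := A)
  exact Finite.of_injective (fun φ (a : s) => φ a) fun φ φ' h =>
    ext_of_gen hs fun a ha => congrFun h ⟨a, ha⟩

lemma fibre_bound {B : Type*} [CommRing B] (g : B →+* A) {s : Finset A}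
    (hs : Algebra.adjoin ℤ (s : Set A) = ⊤) (Q : A → B[X]) (hQ : ∀ a ∈ s, (Q a).eval₂ g a = 0)
    {F : Type v} [Field F] (ψ : B →+* F) (hne : ∀ a ∈ s, (Q a).map ψ ≠ 0) :
    {φ : A →+* F | φ.comp g = ψ}.Finite ∧
      {φ : A →+* F | φ.comp g = ψ}.ncard ≤ ∏ a ∈ s, (Q a).natDegree := by
  classical
  let T : Finset (s → F) := Fintype.piFinset fun a : s => ((Q a).map ψ).roots.toFinset
  have hmaps : ∀ φ ∈ {φ : A →+* F | φ.comp g = ψ}, (fun a : s => φ a) ∈ (T : Set (s → F)) := by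
    intro φ hφ
    simp only [T, Finset.mem_coe, Fintype.mem_piFinset, Multiset.mem_toFinset]
    intro a
    rw [mem_roots (hne a a.2), IsRoot.def, eval_map, ← show φ.comp g = ψ from hφ,
      ← Polynomial.hom_eval₂, hQ a a.2, map_zero]
  have hinj : Set.InjOn (fun (φ : A →+* F) (a : s) => φ a) {φ : A →+* F | φ.comp g = ψ} :=
    fun φ _ φ' _ h => ext_of_gen hs fun a ha => congrFun h ⟨a, ha⟩
  have hfin := Set.Finite.of_injOn hmaps hinj T.finite_toSet
  refine ⟨hfin, (Set.ncard_le_ncard_of_injOn _ hmaps hinj T.finite_toSet).trans ?_⟩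
  rw [Set.ncard_coe_finset, Fintype.card_piFinset, ← Finset.prod_coe_sort s (fun a => (Q a).natDegree)]
  exact Finset.prod_le_prod (fun _ _ => Nat.zero_le _) fun a _ =>
    (Multiset.toFinset_card_le _).trans ((card_roots' _).trans natDegree_map_le)

lemma bound_of_fibres {B : Type*} [CommRing B] (g : B →+* A)
    {s : Finset A} (hs : Algebra.adjoin ℤ (s : Set A) = ⊤) (Q : A → B[X]) (hQ : ∀ a ∈ s, (Q a).eval₂ g a = 0)
    {F : Type v} [Field F] [Finite F] (hne : ∀ (φ : A →+* F), ∀ a ∈ s, (Q a).map (φ.comp g) ≠ 0)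
    [Finite (B →+* F)] (n : ℕ) (hB : Nat.card (B →+* F) ≤ Nat.card F ^ n) :
    Bound A F (∏ a ∈ s, (Q a).natDegree) n := by
  classical
  haveI : Algebra.FiniteType ℤ A := ⟨⟨s, hs⟩⟩
  haveI := finite_hom (A := A) F
  haveI := Fintype.ofFinite (A →+* F)
  haveI := Fintype.ofFinite (B →+* F)
  refine ⟨inferInstance, ?_⟩
  rw [Nat.card_eq_fintype_card]
  calc Fintype.card (A →+* F) ≤ (∏ a ∈ s, (Q a).natDegree) * (Finset.univ.image fun φ : A →+* F => φ.comp g).card := by
        refine Finset.card_le_mul_card_image _ _ fun ψ hψ => ?_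
        obtain ⟨φ, -, rfl⟩ := Finset.mem_image.1 hψ
        refine le_trans (le_of_eq ?_) (fibre_bound g hs Q hQ (φ.comp g) (hne φ)).2
        rw [← Set.ncard_coe_finset]
        congr 1
        ext φ'
        simp
    _ ≤ _ := by
        refine Nat.mul_le_mul_left _ ((Finset.card_le_univ _).trans ?_)
        rw [← Nat.card_eq_fintype_card]
        exact hB

end basic

lemma mvPoly_hom_card {R : Type*} [CommRing R] {n : ℕ} {F : Type v} [Field F] [Finite F]
    [Subsingleton (R →+* F)] :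
    Finite (MvPolynomial (Fin n) R →+* F) ∧ Nat.card (MvPolynomial (Fin n) R →+* F) ≤ Nat.card F ^ n := by
  have hinj : Function.Injective fun (φ : MvPolynomial (Fin n) R →+* F) (i : Fin n) => φ (MvPolynomial.X i) :=
    fun φ φ' h => MvPolynomial.ringHom_ext'
      (Subsingleton.elim (φ.comp MvPolynomial.C) (φ'.comp MvPolynomial.C)) fun i => congrFun h i
  haveI := Finite.of_injective _ hinj
  exact ⟨inferInstance, (Nat.card_le_card_of_injective _ hinj).trans (by rw [Nat.card_fun, Nat.card_fin])⟩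

lemma le_dim_of_inj_integral {k A : Type*} [Field k] [CommRing A] [Algebra k A] {n : ℕ}
    (g : MvPolynomial (Fin n) k →ₐ[k] A) (hg : Function.Injective g) (hfin : g.Finite) :
    (n : WithBot ℕ∞) = ringKrullDim A := by
  rw [← Groth.Agent.Segre.Param.ringKrullDim_eq_of_isIntegral g.toRingHom hfin.to_isIntegral hg,
    MvPolynomial.ringKrullDim_of_isNoetherianRing]
  simp

section charP

variable (A : Type u) [CommRing A] [Algebra.FiniteType ℤ A]

theorem exists_bound_charP (r : ℕ) (hr : ringKrullDim A ≤ r) (p : ℕ) (hp : p.Prime) :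
    ∃ c : ℕ, ∀ (F : Type u) [Field F] [Finite F] [CharP F p], Bound A F c r := by
  classical
  haveI := Fact.mk hp
  let I : Ideal A := Ideal.span {(p : A)}
  by_cases hI : I = ⊤
  · refine ⟨0, fun F _ _ _ => ?_⟩
    have : IsEmpty (A →+* F) := ⟨fun φ => by
      have h1 : (1 : A) ∈ I := hI ▸ Submodule.mem_top
      obtain ⟨a, ha⟩ := Ideal.mem_span_singleton'.1 h1
      have h2 := congrArg φ ha
      rw [map_mul, map_natCast, CharP.cast_eq_zero, mul_zero, map_one] at h2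
      exact zero_ne_one h2⟩
    exact ⟨inferInstance, by simp⟩
  haveI : Nontrivial (A ⧸ I) := Ideal.Quotient.nontrivial_iff.2 hI
  haveI : CharP (A ⧸ I) p := (CharP.charP_iff_prime_eq_zero hp).2
    (by rw [← map_natCast (Ideal.Quotient.mk I), Ideal.Quotient.eq_zero_iff_mem]
        exact Ideal.subset_span rfl)
  letI : Algebra (ZMod p) (A ⧸ I) := ZMod.algebra _ p
  haveI : Algebra.FiniteType ℤ (A ⧸ I) :=
    Algebra.FiniteType.of_surjective (Ideal.Quotient.mk I).toIntAlgHom Ideal.Quotient.mk_surjective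
  haveI : Algebra.FiniteType (ZMod p) (A ⧸ I) := Algebra.FiniteType.of_restrictScalars_finiteType ℤ _ _
  obtain ⟨n, g, hg, hfin⟩ := exists_finite_inj_algHom_of_fg (ZMod p) (A ⧸ I)
  have hn : n ≤ r := by
    have := (le_dim_of_inj_integral g hg hfin).le.trans ((ringKrullDim_quotient_le I).trans hr)
    exact_mod_cast this
  obtain ⟨s, hs⟩ := @exists_gen (A ⧸ I) _
    (Algebra.FiniteType.of_surjective (Ideal.Quotient.mk I).toIntAlgHom Ideal.Quotient.mk_surjective)
  have hQ : ∀ a : A ⧸ I, ∃ Q : (MvPolynomial (Fin n) (ZMod p))[X], Q.Monic ∧ Q.eval₂ g.toRingHom a = 0 :=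
    fun a => hfin.to_isIntegral a
  choose Q hQm hQ using hQ
  refine ⟨∏ a ∈ s, (Q a).natDegree, fun F _ _ _ => ?_⟩
  haveI : Finite (MvPolynomial (Fin n) (ZMod p) →+* F) := mvPoly_hom_card.1
  obtain ⟨-, hcard⟩ := bound_of_fibres g.toRingHom hs Q (fun a _ => hQ a) (F := F)
    (fun φ a _ => ((hQm a).map _).ne_zero) n mvPoly_hom_card.2
  haveI := finite_hom (A := A) F
  haveI : Finite (A ⧸ I →+* F) := @finite_hom (A ⧸ I) _ ⟨⟨s, hs⟩⟩ F _ _
  refine ⟨inferInstance, le_trans ?_ (hcard.trans (Nat.mul_le_mul_left _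
    (Nat.pow_le_pow_right Nat.card_pos hn)))⟩
  refine Nat.card_le_card_of_surjective (fun φ : A ⧸ I →+* F => φ.comp (Ideal.Quotient.mk I)) fun φ => ?_
  exact ⟨Ideal.Quotient.lift I φ fun a ha => by
    obtain ⟨b, rfl⟩ := Ideal.mem_span_singleton'.1 ha
    rw [map_mul, map_natCast, CharP.cast_eq_zero, mul_zero], Ideal.Quotient.lift_comp_mk _ _ _⟩

end charP

section generic

variable (A : Type u) [CommRing A] [Algebra.FiniteType ℤ A]

local notation "K" => ℚ

lemma finiteType_generic : Algebra.FiniteType K (K ⊗[ℤ] A) := by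
  classical
  obtain ⟨s, hs⟩ := exists_gen (A := A)
  let ι : A →ₐ[ℤ] K ⊗[ℤ] A := Algebra.TensorProduct.includeRight
  refine ⟨⟨s.image ι, ?_⟩⟩
  rw [eq_top_iff]
  rintro z -
  induction z with
  | zero => exact zero_mem _
  | add x y hx hy => exact add_mem hx hy
  | tmul q a =>
    rw [show q ⊗ₜ[ℤ] a = q • ι a by simp [ι, TensorProduct.smul_tmul']]
    refine Subalgebra.smul_mem _ ?_ q
    have h : a ∈ ((Algebra.adjoin K (↑(s.image ι) : Set (K ⊗[ℤ] A))).restrictScalars ℤ).comap ι := by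
      refine Algebra.adjoin_le ?_ (hs ▸ (Algebra.mem_top : a ∈ (⊤ : Subalgebra ℤ A)))
      intro b hb
      exact Algebra.subset_adjoin (Finset.mem_image_of_mem ι hb)
    exact h

lemma exists_clear_mv {n : ℕ} (P : MvPolynomial (Fin n) K) :
    ∃ (D : ℤ) (Q : MvPolynomial (Fin n) ℤ), D ≠ 0 ∧
      Q.map (algebraMap ℤ K) = MvPolynomial.C (algebraMap ℤ K D) * P := by
  induction P using MvPolynomial.induction_on with
  | C a =>
    obtain ⟨x, y, hy, rfl⟩ := IsFractionRing.div_surjective (A := ℤ) a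
    refine ⟨y, MvPolynomial.C x, nonZeroDivisors.ne_zero hy, ?_⟩
    rw [MvPolynomial.map_C, ← map_mul, mul_div_cancel₀]
    exact IsFractionRing.to_map_ne_zero_of_mem_nonZeroDivisors hy
  | add P₁ P₂ h₁ h₂ =>
    obtain ⟨D₁, Q₁, hD₁, hQ₁⟩ := h₁
    obtain ⟨D₂, Q₂, hD₂, hQ₂⟩ := h₂
    refine ⟨D₁ * D₂, MvPolynomial.C D₂ * Q₁ + MvPolynomial.C D₁ * Q₂, mul_ne_zero hD₁ hD₂, ?_⟩
    simp only [map_add, map_mul, MvPolynomial.map_C, hQ₁, hQ₂]
    ring
  | mul_X P₁ i h₁ =>
    obtain ⟨D₁, Q₁, hD₁, hQ₁⟩ := h₁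
    exact ⟨D₁, Q₁ * MvPolynomial.X i, hD₁, by simp only [map_mul, MvPolynomial.map_X, hQ₁, mul_assoc]⟩

lemma exists_clear {n : ℕ} (P : (MvPolynomial (Fin n) K)[X]) :
    ∃ (D : ℤ) (Q : (MvPolynomial (Fin n) ℤ)[X]), D ≠ 0 ∧
      Q.map (MvPolynomial.map (algebraMap ℤ K)) = C (MvPolynomial.C (algebraMap ℤ K D)) * P := by
  induction P using Polynomial.induction_on' with
  | add P₁ P₂ h₁ h₂ =>
    obtain ⟨D₁, Q₁, hD₁, hQ₁⟩ := h₁
    obtain ⟨D₂, Q₂, hD₂, hQ₂⟩ := h₂
    refine ⟨D₁ * D₂, C (MvPolynomial.C D₂) * Q₁ + C (MvPolynomial.C D₁) * Q₂, mul_ne_zero hD₁ hD₂, ?_⟩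
    simp only [Polynomial.map_add, Polynomial.map_mul, Polynomial.map_C, MvPolynomial.map_C, hQ₁, hQ₂, map_mul]
    ring
  | monomial i a =>
    obtain ⟨D, Q, hD, hQ⟩ := exists_clear_mv a
    exact ⟨D, monomial i Q, hD, by rw [map_monomial, hQ, C_mul_monomial]⟩

lemma isJacobsonRing_int : IsJacobsonRing ℤ := by
  rw [isJacobsonRing_iff_prime_eq]
  intro P hP
  by_cases h : P = ⊥
  · subst h
    refine le_antisymm (fun x hx => ?_) Ideal.le_jacobson
    by_contra h0
    obtain ⟨q, hq, hqp⟩ := Nat.exists_infinite_primes (x.natAbs + 1)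
    haveI := Fact.mk hqp
    have hmax : (Ideal.span {(q : ℤ)}).IsMaximal := PrincipalIdealRing.isMaximal_of_irreducible (Nat.prime_iff_prime_int.1 hqp).irreducible
    have hxq : x ∈ Ideal.span {(q : ℤ)} :=
      (Ideal.mem_sInf.1 (show x ∈ sInf _ from hx)) ⟨bot_le, hmax⟩
    rw [Ideal.mem_span_singleton, Int.natCast_dvd] at hxq
    have hx0 : x ≠ 0 := fun e => h0 (by simp [e])
    have := Nat.le_of_dvd (Int.natAbs_pos.2 hx0) hxq
    omega
  · haveI : P.IsMaximal := IsPrime.to_maximal_ideal h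
    exact Ideal.jacobson_eq_self_of_isMaximal

/-- chains in the generic fibre are not maximal -/
lemma dim_generic_succ_le (n : ℕ) (hn : (n : WithBot ℕ∞) ≤ ringKrullDim (K ⊗[ℤ] A)) :
    ((n + 1 : ℕ) : WithBot ℕ∞) ≤ ringKrullDim A := by
  obtain ⟨l, hl⟩ := (Order.le_krullDim_iff (n := n)).1 hn
  let ι : A →ₐ[ℤ] K ⊗[ℤ] A := Algebra.TensorProduct.includeRight
  haveI : IsLocalizedModule (nonZeroDivisors ℤ) (TensorProduct.mk ℤ K A 1) :=
    (isLocalizedModule_iff_isBaseChange (nonZeroDivisors ℤ) K _).2 (TensorProduct.isBaseChange ℤ A K)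
  have hu : ∀ N : nonZeroDivisors ℤ, IsUnit (algebraMap ℤ (K ⊗[ℤ] A) N) := fun N => by
    rw [IsScalarTower.algebraMap_apply ℤ K (K ⊗[ℤ] A)]
    exact (IsLocalization.map_units K N).map _
  have hmono : StrictMono (PrimeSpectrum.comap ι.toRingHom) := by
    intro P Q hPQ
    refine lt_of_le_not_ge (Ideal.comap_mono hPQ.le) fun hle => hPQ.not_ge fun z hz => ?_
    obtain ⟨⟨a, N⟩, ha⟩ := IsLocalizedModule.surj (nonZeroDivisors ℤ) (TensorProduct.mk ℤ K A 1) z
    have ha' : algebraMap ℤ (K ⊗[ℤ] A) N * z = ι a := by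
      rw [← Algebra.smul_def]
      exact ha
    have h1 : ι a ∈ Q.asIdeal := ha' ▸ Q.asIdeal.mul_mem_left _ hz
    have h2 : ι a ∈ P.asIdeal := hle h1
    rw [← ha'] at h2
    exact (Ideal.unit_mul_mem_iff_mem _ (hu N)).1 h2
  let m := l.map _ hmono
  have hnotmax : ¬ m.last.asIdeal.IsMaximal := by
    intro hmax
    letI := Ideal.Quotient.field m.last.asIdeal
    haveI : Algebra.FiniteType ℤ (A ⧸ m.last.asIdeal) :=
      Algebra.FiniteType.of_surjective (Ideal.Quotient.mk m.last.asIdeal).toIntAlgHom Ideal.Quotient.mk_surjective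
    haveI := isJacobsonRing_int
    haveI : Module.Finite ℤ (A ⧸ m.last.asIdeal) :=
      finite_of_finite_type_of_isJacobsonRing ℤ (A ⧸ m.last.asIdeal)
    refine Int.not_isField (isField_of_isIntegral_of_isField (R := ℤ) (S := A ⧸ m.last.asIdeal)
      ?_ (Field.toIsField _))
    refine (injective_iff_map_eq_zero _).2 fun z hz => ?_
    by_contra hz0
    rw [IsScalarTower.algebraMap_apply ℤ A (A ⧸ m.last.asIdeal), Ideal.Quotient.algebraMap_eq,
      Ideal.Quotient.eq_zero_iff_mem] at hz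
    have h1 : ι (algebraMap ℤ A z) ∈ l.last.asIdeal := by
      simpa [m] using hz
    rw [ι.commutes] at h1
    exact l.last.isPrime.ne_top (Ideal.eq_top_of_isUnit_mem _ h1
      (hu ⟨z, mem_nonZeroDivisors_of_ne_zero hz0⟩))
  obtain ⟨M, hM, hle⟩ := m.last.asIdeal.exists_le_maximal m.last.isPrime.ne_top
  have hlt : m.last < ⟨M, hM.isPrime⟩ := lt_of_le_of_ne hle fun h => hnotmax (by rw [h]; exact hM)
  refine (Order.le_krullDim_iff (n := n + 1)).2 ⟨m.snoc ⟨M, hM.isPrime⟩ hlt, ?_⟩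
  simp [m, hl]

theorem exists_bound_generic (r : ℕ) (hr : ringKrullDim A ≤ r) :
    ∃ p₀ c : ℕ, ∀ (p : ℕ), p₀ ≤ p → ∀ (F : Type u) [Field F] [Finite F] [CharP F p],
      Bound A F c (r - 1) ∧ (r = 0 → IsEmpty (A →+* F)) := by
  classical
  haveI hloc : IsLocalizedModule (nonZeroDivisors ℤ) (TensorProduct.mk ℤ K A 1) :=
    (isLocalizedModule_iff_isBaseChange (nonZeroDivisors ℤ) K _).2 (TensorProduct.isBaseChange ℤ A K)
  have htors : ∀ y : A, (1 : K) ⊗ₜ[ℤ] y = 0 → ∃ M : ℤ, M ≠ 0 ∧ (M : A) * y = 0 := by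
    intro y hy
    obtain ⟨M, hM⟩ := (IsLocalizedModule.eq_zero_iff (nonZeroDivisors ℤ) (TensorProduct.mk ℤ K A 1)).1 hy
    exact ⟨M, nonZeroDivisors.ne_zero M.2, by rw [← zsmul_eq_mul]; exact hM⟩
  have hcast : ∀ (p : ℕ) (F : Type u) [Field F] [CharP F p] (N : ℤ), N ≠ 0 → N.natAbs < p → (N : F) ≠ 0 := by
    intro p F _ _ N hN hlt h
    rw [CharP.intCast_eq_zero_iff F p] at h
    exact absurd (Nat.le_of_dvd (Int.natAbs_pos.2 hN) (Int.natCast_dvd.1 h)) (not_le.2 hlt)
  rcases subsingleton_or_nontrivial (K ⊗[ℤ] A) with hsub | hnt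
  · obtain ⟨M, hM, hM1⟩ := htors 1 (Subsingleton.elim _ _)
    refine ⟨M.natAbs + 1, 0, fun p hp F _ _ _ => ?_⟩
    have : IsEmpty (A →+* F) := ⟨fun φ => by
      have h2 := congrArg φ hM1
      rw [map_mul, map_intCast, map_one, mul_one, map_zero] at h2
      exact hcast p F M hM hp h2⟩
    exact ⟨⟨inferInstance, by simp⟩, fun _ => this⟩
  haveI : Algebra.FiniteType K (K ⊗[ℤ] A) := finiteType_generic A
  obtain ⟨n, g, hg, hfin⟩ := exists_finite_inj_algHom_of_fg K (K ⊗[ℤ] A)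
  have hn1 : n + 1 ≤ r := by
    have := (dim_generic_succ_le A n (le_dim_of_inj_integral g hg hfin).le).trans hr
    exact_mod_cast this
  have hn : n ≤ r - 1 := by omega
  have hsurj : ∀ i, ∃ a : A, ∃ N : ℤ, N ≠ 0 ∧
      MvPolynomial.aeval (R := K) (fun _ : Fin n => (1 : K) ⊗ₜ[ℤ] a) (MvPolynomial.X i) =
        algebraMap K (K ⊗[ℤ] A) (algebraMap ℤ K N) * g (MvPolynomial.X i) := by
    intro i
    obtain ⟨⟨a, N⟩, ha⟩ := IsLocalizedModule.surj (nonZeroDivisors ℤ) (TensorProduct.mk ℤ K A 1) (g (MvPolynomial.X i))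
    refine ⟨a, N, nonZeroDivisors.ne_zero N.2, ?_⟩
    rw [MvPolynomial.aeval_X, ← IsScalarTower.algebraMap_apply, ← Algebra.smul_def]
    exact ha.symm
  choose a N hN ha using hsurj
  simp only [MvPolynomial.aeval_X] at ha
  let g₀ : MvPolynomial (Fin n) ℤ →ₐ[ℤ] A := MvPolynomial.aeval a
  let g' : MvPolynomial (Fin n) K →ₐ[K] K ⊗[ℤ] A := MvPolynomial.aeval fun i => (1 : K) ⊗ₜ[ℤ] a i
  let σ : MvPolynomial (Fin n) K →ₐ[K] MvPolynomial (Fin n) K :=
    MvPolynomial.aeval fun i => MvPolynomial.C (algebraMap ℤ K (N i))⁻¹ * MvPolynomial.X i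
  have hσ : g'.comp σ = g := by
    refine MvPolynomial.algHom_ext fun i => ?_
    have hne : algebraMap ℤ K (N i) ≠ 0 := (map_ne_zero_iff _ (IsFractionRing.injective ℤ K)).2 (hN i)
    simp only [AlgHom.comp_apply, σ, g', MvPolynomial.aeval_X, map_mul, MvPolynomial.aeval_C, ha]
    rw [← mul_assoc, ← map_mul, inv_mul_cancel₀ hne, map_one, one_mul]
  have hcomp : ∀ q : MvPolynomial (Fin n) ℤ,
      g' (q.map (algebraMap ℤ K)) = Algebra.TensorProduct.includeRight (g₀ q) := by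
    intro q
    refine RingHom.congr_fun (f := g'.toRingHom.comp (MvPolynomial.map (algebraMap ℤ K)))
      (g := (Algebra.TensorProduct.includeRight : A →ₐ[ℤ] K ⊗[ℤ] A).toRingHom.comp g₀.toRingHom) ?_ q
    exact MvPolynomial.ringHom_ext' (Subsingleton.elim _ _) fun i => by simp [g', g₀]
  have key : ∀ b : A, ∃ (D : ℤ) (Q : (MvPolynomial (Fin n) ℤ)[X]) (d : ℕ), D ≠ 0 ∧
      Q.coeff d = MvPolynomial.C D ∧ Q.eval₂ g₀.toRingHom b = 0 := by
    intro b
    obtain ⟨P, hPm, hP⟩ := hfin.to_isIntegral ((1 : K) ⊗ₜ[ℤ] b)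
    rw [← hσ, AlgHom.toRingHom_eq_coe, AlgHom.comp_toRingHom, ← Polynomial.eval₂_map] at hP
    obtain ⟨D, Q, hD, hQ⟩ := exists_clear (P.map σ.toRingHom)
    have h0 : Algebra.TensorProduct.includeRight (R := ℤ) (A := K) (Q.eval₂ g₀.toRingHom b) = 0 := by
      change (Algebra.TensorProduct.includeRight : A →ₐ[ℤ] K ⊗[ℤ] A).toRingHom (Q.eval₂ g₀.toRingHom b) = 0
      rw [Polynomial.hom_eval₂, show ((Algebra.TensorProduct.includeRight : A →ₐ[ℤ] K ⊗[ℤ] A).toRingHom.comp
        g₀.toRingHom) = g'.toRingHom.comp (MvPolynomial.map (algebraMap ℤ K)) from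
          RingHom.ext fun q => (hcomp q).symm, ← Polynomial.eval₂_map, hQ, Polynomial.eval₂_mul]
      exact mul_eq_zero_of_right _ hP
    obtain ⟨M, hM, hM0⟩ := htors _ h0
    refine ⟨M * D, C (MvPolynomial.C M) * Q, P.natDegree, mul_ne_zero hM hD, ?_, ?_⟩
    · rw [coeff_C_mul, map_mul]
      congr 1
      apply MvPolynomial.map_injective _ (IsFractionRing.injective ℤ K)
      rw [← Polynomial.coeff_map, hQ, coeff_C_mul, Polynomial.coeff_map, hPm.coeff_natDegree, map_one, mul_one,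
        MvPolynomial.map_C]
    · rw [eval₂_mul, eval₂_C]
      simpa [g₀] using hM0
  choose D Q d hD hQd hQ using key
  obtain ⟨s, hs⟩ := exists_gen (A := A)
  refine ⟨(∑ b ∈ s, (D b).natAbs) + 1, ∏ b ∈ s, (Q b).natDegree, fun p hp F _ _ _ => ?_⟩
  haveI : Subsingleton (ℤ →+* F) := RingHom.Int.subsingleton_ringHom
  haveI : Finite (MvPolynomial (Fin n) ℤ →+* F) := mvPoly_hom_card.1
  obtain ⟨hfinF, hcard⟩ := bound_of_fibres g₀.toRingHom hs Q (fun b _ => hQ b) (F := F)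
    (fun φ b hb h0 => by
      have h1 := congrArg (fun P => P.coeff (d b)) h0
      simp only [Polynomial.coeff_map, hQd, coeff_zero] at h1
      refine hcast p F (D b) (hD b) ?_ ?_
      · have := Finset.single_le_sum (f := fun b => (D b).natAbs) (fun _ _ => Nat.zero_le _) hb
        omega
      · simpa [g₀] using h1) n mvPoly_hom_card.2
  exact ⟨⟨hfinF, hcard.trans (Nat.mul_le_mul_left _ (Nat.pow_le_pow_right Nat.card_pos hn))⟩,
    fun h => absurd h (by omega)⟩

end generic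

theorem exists_bound (A : Type u) [CommRing A] [Algebra.FiniteType ℤ A] (r : ℕ) (hr : ringKrullDim A ≤ r) :
    ∃ p₀ c : ℕ, ∀ (p : ℕ) (F : Type u) [Field F] [Finite F] [CharP F p],
      (p₀ ≤ p → Bound A F c (r - 1) ∧ (r = 0 → IsEmpty (A →+* F))) ∧ Bound A F c r := by
  classical
  obtain ⟨p₀, c₀, h₀⟩ := exists_bound_generic A r hr
  have hex : ∀ p : ℕ, ∃ c : ℕ, p.Prime → ∀ (F : Type u) [Field F] [Finite F] [CharP F p], Bound A F c r := by
    intro p
    by_cases hp : p.Prime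
    · obtain ⟨c, hc⟩ := exists_bound_charP A r hr p hp
      exact ⟨c, fun _ => hc⟩
    · exact ⟨0, fun h => absurd h hp⟩
  choose c₁ h₁ using hex
  refine ⟨p₀, c₀ + ∑ p ∈ Finset.range p₀, c₁ p, fun p F _ _ _ => ?_⟩
  have hp : p.Prime := (CharP.char_is_prime_or_zero F p).resolve_right fun h => by
    subst h
    haveI := CharP.charP_to_charZero F
    exact _root_.not_finite F
  have mono : ∀ {c e e' : ℕ}, Bound A F c e → c ≤ c₀ + ∑ p ∈ Finset.range p₀, c₁ p → e ≤ e' →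
      Bound A F (c₀ + ∑ p ∈ Finset.range p₀, c₁ p) e' := fun hb hc he =>
    ⟨hb.1, hb.2.trans (Nat.mul_le_mul hc (Nat.pow_le_pow_right Nat.card_pos he))⟩
  refine ⟨fun h => ⟨mono (h₀ p h F).1 (Nat.le_add_right _ _) le_rfl, (h₀ p h F).2⟩, ?_⟩
  rcases le_or_gt p₀ p with h | h
  · exact mono (h₀ p h F).1 (Nat.le_add_right _ _) (Nat.sub_le r 1)
  · exact mono (h₁ p hp F) ((Finset.single_le_sum (f := c₁) (fun _ _ => Nat.zero_le _)
      (Finset.mem_range.2 h)).trans (Nat.le_add_left _ _)) le_rfl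

end LeadZeta
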