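import Mathlib.Data.Finset.Finsupp
import Mathlib.Analysis.SpecificLimits.Normed
import Mathlib.Analysis.Complex.Basic
import Mathlib.Analysis.SpecialFunctions.Exp
import Mathlib.Analysis.SpecialFunctions.Log.Basic
import Mathlib.Analysis.SpecialFunctions.Complex.Log
import Mathlib.Algebra.BigOperators.Ring.Finset

/-! Sums over effective cycles: convergence and non-vanishing. -/

set_option autoImplicit false

universe u

noncomputable section

namespace LeadZeta

variable {α : Type u}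

/-- the monomial of a cycle -/
def mon {R : Type*} [CommMonoid R] (f : α → R) (a : α →₀ ℕ) : R := a.prod fun x m => f x ^ m

lemma mon_zero {R : Type*} [CommMonoid R] (f : α → R) : mon f (0 : α →₀ ℕ) = 1 := by simp [mon]

lemma norm_mon (f : α → ℂ) (a : α →₀ ℕ) : ‖mon f a‖ = mon (fun x => ‖f x‖) a := by
  simp [mon, Finsupp.prod, norm_prod, norm_pow]

lemma sum_mon_le (u : α → ℝ) (h0 : ∀ x, 0 ≤ u x) (h1 : ∀ x, u x < 1)
    (hs : Summable fun x => u x / (1 - u x)) (S : Finset (α →₀ ℕ)) :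
    ∑ a ∈ S, mon u a ≤ Real.exp (∑' x, u x / (1 - u x)) := by
  classical
  let T : Finset α := S.biUnion Finsupp.support
  let N : ℕ := S.sup (fun a => a.support.sup a) + 1
  have hsub : S ⊆ T.finsupp (fun _ => Finset.range N) := by
    intro a ha
    rw [Finset.mem_finsupp_iff]
    refine ⟨Finset.subset_biUnion_of_mem Finsupp.support ha, fun x _ => Finset.mem_range.2 ?_⟩
    by_cases hx : x ∈ a.support
    · exact Nat.lt_succ_of_le (le_trans (Finset.le_sup (f := a) hx)
        (Finset.le_sup (f := fun b : α →₀ ℕ => b.support.sup b) ha))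
    · rw [Finsupp.notMem_support_iff.1 hx]; exact Nat.succ_pos _
  have hnn : ∀ a : α →₀ ℕ, 0 ≤ mon u a := fun a => Finset.prod_nonneg fun x _ => pow_nonneg (h0 x) _
  refine (Finset.sum_le_sum_of_subset_of_nonneg hsub fun a _ _ => hnn a).trans ?_
  have heq : ∑ a ∈ T.finsupp (fun _ => Finset.range N), mon u a = ∏ x ∈ T, ∑ m ∈ Finset.range N, u x ^ m := by
    rw [Finset.finsupp, Finset.sum_map, Finset.prod_sum]
    refine Finset.sum_congr rfl fun p hp => ?_
    simp only [Function.Embedding.coeFn_mk]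
    rw [mon, Finsupp.prod_of_support_subset _ (Finsupp.support_indicator_subset T p) (fun x m => u x ^ m) (fun x _ => pow_zero _),
      ← Finset.prod_attach T (fun x => u x ^ _)]
    exact Finset.prod_congr rfl fun x _ => by simp [Finsupp.indicator_of_mem x.2]
  rw [heq]
  calc ∏ x ∈ T, ∑ m ∈ Finset.range N, u x ^ m ≤ ∏ x ∈ T, Real.exp (u x / (1 - u x)) := by
        refine Finset.prod_le_prod (fun x _ => Finset.sum_nonneg fun m _ => pow_nonneg (h0 x) m) fun x _ => ?_
        refine le_trans ((Summable.sum_le_tsum _ (fun m _ => pow_nonneg (h0 x) m)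
          (summable_geometric_of_lt_one (h0 x) (h1 x))).trans (le_of_eq (tsum_geometric_of_lt_one (h0 x) (h1 x)))) ?_
        refine le_trans (le_of_eq ?_) (Real.add_one_le_exp _)
        have : (1 : ℝ) - u x ≠ 0 := by linarith [h1 x]
        field_simp
        ring
    _ ≤ _ := by
        rw [← Real.exp_sum, Real.exp_le_exp]
        exact hs.sum_le_tsum _ fun x _ => div_nonneg (h0 x) (by linarith [h1 x])

lemma summable_ratio (u : α → ℝ) (h0 : ∀ x, 0 ≤ u x) (h1 : ∀ x, u x < 1) (hs : Summable u) :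
    Summable fun x => u x / (1 - u x) := by
  refine Summable.of_norm_bounded_eventually (hs.mul_left 2) ?_
  filter_upwards [hs.tendsto_cofinite_zero.eventually_le_const (show (0:ℝ) < 1 / 2 by norm_num)] with x hx
  rw [Real.norm_of_nonneg (div_nonneg (h0 x) (by linarith [h1 x])), div_le_iff₀ (by linarith [h1 x])]
  nlinarith [h0 x]

theorem summable_mon (f : α → ℂ) (h1 : ∀ x, ‖f x‖ < 1) (hs : Summable fun x => ‖f x‖) :
    Summable fun a : α →₀ ℕ => ‖mon f a‖ := by
  simp only [norm_mon]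
  exact summable_of_sum_le (fun a => Finset.prod_nonneg fun x _ => pow_nonneg (norm_nonneg _) _)
    (sum_mon_le _ (fun x => norm_nonneg _) h1 (summable_ratio _ (fun x => norm_nonneg _) h1 hs))

theorem tsum_mon_ne_zero_of_small (f : α → ℂ) (h1 : ∀ x, ‖f x‖ < 1) (hs : Summable fun x => ‖f x‖)
    (hsmall : ∑' x, ‖f x‖ / (1 - ‖f x‖) < Real.log 2) : ∑' a : α →₀ ℕ, mon f a ≠ 0 := by
  classical
  have hS := summable_mon f h1 hs
  have hle : ∑' a : α →₀ ℕ, ‖mon f a‖ < 2 := by
    refine lt_of_le_of_lt (Real.tsum_le_of_sum_le (fun a => norm_nonneg _) fun S => ?_)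
      (lt_of_lt_of_eq (Real.exp_lt_exp.2 hsmall) (Real.exp_log (by norm_num)))
    simp only [norm_mon]
    exact sum_mon_le _ (fun x => norm_nonneg _) h1 (summable_ratio _ (fun x => norm_nonneg _) h1 hs) S
  intro h0
  have h2 := hS.of_norm.tsum_eq_add_tsum_ite (0 : α →₀ ℕ)
  have h3 := hS.tsum_eq_add_tsum_ite (0 : α →₀ ℕ)
  rw [mon_zero] at h2 h3
  rw [norm_one] at h3
  rw [h0] at h2
  have h4 : ‖∑' a : α →₀ ℕ, if a = 0 then 0 else mon f a‖ ≤ ∑' a : α →₀ ℕ, if a = 0 then 0 else ‖mon f a‖ := by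
    refine (norm_tsum_le_tsum_norm ?_).trans (le_of_eq (tsum_congr fun a => by split <;> simp))
    exact hS.of_nonneg_of_le (fun a => norm_nonneg _) fun a => by split <;> simp
  rw [show (∑' a : α →₀ ℕ, if a = 0 then 0 else mon f a) = -1 by linear_combination -h2, norm_neg, norm_one] at h4
  linarith

lemma mon_sum {β γ : Type u} (f : β ⊕ γ → ℂ) (p : (β →₀ ℕ) × (γ →₀ ℕ)) :
    mon f (Finsupp.sumFinsuppEquivProdFinsupp.symm p) = mon (fun x => f (Sum.inl x)) p.1 * mon (fun x => f (Sum.inr x)) p.2 := by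
  exact Finsupp.prod_sumElim ..

lemma tsum_mon_sum {β γ : Type u} (f : β ⊕ γ → ℂ) (h1 : ∀ x, ‖f x‖ < 1) (hs : Summable fun x => ‖f x‖) :
    ∑' a : β ⊕ γ →₀ ℕ, mon f a = (∑' a, mon (fun x => f (Sum.inl x)) a) * ∑' a, mon (fun x => f (Sum.inr x)) a := by
  rw [tsum_mul_tsum_of_summable_norm (summable_mon _ (fun x => h1 _) (hs.comp_injective Sum.inl_injective))
    (summable_mon _ (fun x => h1 _) (hs.comp_injective Sum.inr_injective)),
    ← Finsupp.sumFinsuppEquivProdFinsupp.symm.tsum_eq]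
  exact tsum_congr fun p => mon_sum f p

lemma tsum_mon_congr {β : Type u} (e : β ≃ α) (f : α → ℂ) :
    ∑' a : α →₀ ℕ, mon f a = ∑' a : β →₀ ℕ, mon (fun x => f (e x)) a := by
  rw [← (Finsupp.equivCongrLeft e).tsum_eq]
  refine tsum_congr fun a => ?_
  simp only [Finsupp.equivCongrLeft_apply, mon, Finsupp.equivMapDomain_eq_mapDomain]
  exact Finsupp.prod_mapDomain_index_inj e.injective

lemma tsum_mon_unique [Unique α] (f : α → ℂ) (h1 : ∀ x, ‖f x‖ < 1) :
    ∑' a : α →₀ ℕ, mon f a = (1 - f default)⁻¹ := by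
  rw [← tsum_geometric_of_norm_lt_one (h1 default), ← (Finsupp.uniqueEquiv (default : α)).symm.tsum_eq]
  refine tsum_congr fun m => ?_
  simp [mon, Finsupp.uniqueEquiv_symm_apply, Finsupp.prod_single_index]

theorem tsum_mon_ne_zero (f : α → ℂ) (h1 : ∀ x, ‖f x‖ < 1) (hs : Summable fun x => ‖f x‖) :
    ∑' a : α →₀ ℕ, mon f a ≠ 0 := by
  classical
  have hu := summable_ratio (fun x => ‖f x‖) (fun x => norm_nonneg _) h1 hs
  obtain ⟨T, hT⟩ := ((tendsto_tsum_compl_atTop_zero fun x => ‖f x‖ / (1 - ‖f x‖)).eventually_lt_const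
    (Real.log_pos one_lt_two)).exists
  suffices key : ∀ (n : ℕ) (β : Type u) (g : β → ℂ) (T : Finset β), T.card = n → (∀ x, ‖g x‖ < 1) →
      (Summable fun x => ‖g x‖) → (∑' x : {x // x ∉ T}, ‖g x‖ / (1 - ‖g x‖)) < Real.log 2 →
      ∑' a : β →₀ ℕ, mon g a ≠ 0 from key _ α f T rfl h1 hs hT
  intro n
  induction n with
  | zero =>
    intro β g T hT0 h1 hs hlt
    rw [Finset.card_eq_zero] at hT0
    subst hT0
    refine tsum_mon_ne_zero_of_small g h1 hs (lt_of_eq_of_lt ?_ hlt)
    exact ((Equiv.subtypeUnivEquiv fun x : β => Finset.notMem_empty x).tsum_eq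
      fun x => ‖g x‖ / (1 - ‖g x‖)).symm
  | succ n ih =>
    intro β g T hT1 h1 hs hlt
    obtain ⟨x, hx⟩ : T.Nonempty := Finset.card_pos.1 (by omega)
    rw [tsum_mon_congr (Equiv.sumCompl (fun y => y = x)) g,
      tsum_mon_sum _ (fun y => h1 _) (hs.comp_injective (Equiv.sumCompl _).injective)]
    refine mul_ne_zero ?_ ?_
    · letI : Unique {y // y = x} := { default := ⟨x, rfl⟩, uniq := fun y => Subtype.ext y.2 }
      rw [tsum_mon_unique _ fun y => h1 _]
      exact inv_ne_zero (sub_ne_zero.2 fun h => lt_irrefl (1 : ℝ) (by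
        have := h1 ((Equiv.sumCompl fun y => y = x) (Sum.inl default))
        try simp only [Function.comp_apply] at h
        rwa [← h, norm_one] at this))
    · refine ih _ _ (T.subtype fun y => ¬ y = x) ?_ (fun y => h1 _)
        (hs.comp_injective ((Equiv.sumCompl fun y => y = x).injective.comp Sum.inr_injective))
        (lt_of_eq_of_lt ?_ hlt)
      · rw [Finset.card_subtype, Finset.filter_ne', Finset.card_erase_of_mem hx, hT1]
        rfl
      · let e : {y : {y // ¬ y = x} // y ∉ T.subtype fun y => ¬ y = x} ≃ {y // y ∉ T} :=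
          { toFun := fun y => ⟨y.1.1, fun h => y.2 (Finset.mem_subtype.2 h)⟩
            invFun := fun y => ⟨⟨y.1, fun h => y.2 (by rw [h]; exact hx)⟩, fun h => y.2 ((Finset.mem_subtype (p := fun z => ¬ z = x)).1 h)⟩
            left_inv := fun y => rfl
            right_inv := fun y => rfl }
        exact e.tsum_eq fun y => ‖g y.1‖ / (1 - ‖g y.1‖)

end LeadZeta
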