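import Groth.Agent.Lead.Zeta.Count
import Mathlib.AlgebraicGeometry.Morphisms.FiniteType
import Mathlib.AlgebraicGeometry.Morphisms.QuasiCompact
import Mathlib.Topology.KrullDimension
import Mathlib.RingTheory.Spectrum.Prime.Topology

/-! Counting finite-field points of schemes of finite type over `ℤ`. -/

set_option autoImplicit false

universe u

open CategoryTheory AlgebraicGeometry

noncomputable section

namespace LeadZeta

lemma compactSpace_of_base {X : Scheme.{u}} {R : CommRingCat.{u}} (f : X ⟶ Spec R) [QuasiCompact f] :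
    CompactSpace X := QuasiCompact.compactSpace_of_compactSpace f

lemma finiteType_sections {X : Scheme.{u}} (f : X ⟶ Spec (CommRingCat.of (ULift.{u} ℤ))) [LocallyOfFiniteType f]
    [IsAffine X] : Algebra.FiniteType ℤ Γ(X, ⊤) := by
  have h : (f.appTop).hom.FiniteType := (HasRingHomProperty.iff_of_isAffine (P := @LocallyOfFiniteType)).1 ‹_›
  have h2 : ((Scheme.ΓSpecIso (CommRingCat.of (ULift.{u} ℤ))).inv ≫ f.appTop).hom.FiniteType := by
    rw [CommRingCat.hom_comp]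
    exact RingHom.FiniteType.comp h (RingHom.FiniteType.of_surjective _
      (Scheme.ΓSpecIso (CommRingCat.of (ULift.{u} ℤ))).symm.commRingCatIsoToRingEquiv.surjective)
  have h3 := h2.comp (RingHom.FiniteType.of_surjective
    (ULift.ringEquiv.symm : ℤ ≃+* ULift.{u} ℤ).toRingHom (ULift.ringEquiv.symm : ℤ ≃+* ULift.{u} ℤ).surjective)
  rw [← RingHom.finiteType_algebraMap]
  convert h3
  exact Subsingleton.elim _ _

/-- the points of a scheme of finite type over `ℤ` with values in finite fields -/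
theorem exists_bound_scheme {X : Scheme.{u}} (f : X ⟶ Spec (CommRingCat.of (ULift.{u} ℤ)))
    [LocallyOfFiniteType f] [QuasiCompact f] (r : ℕ) (hr : topologicalKrullDim X ≤ r) :
    ∃ p₀ c : ℕ, ∀ (p : ℕ) (F : Type u) [Field F] [Finite F] [CharP F p],
      Finite (Spec (CommRingCat.of F) ⟶ X) ∧
      (p₀ ≤ p → Nat.card (Spec (CommRingCat.of F) ⟶ X) ≤ c * Nat.card F ^ (r - 1) ∧
        (r = 0 → IsEmpty (Spec (CommRingCat.of F) ⟶ X))) ∧
      Nat.card (Spec (CommRingCat.of F) ⟶ X) ≤ c * Nat.card F ^ r := by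
  classical
  haveI := compactSpace_of_base f
  let 𝒰 := X.affineCover
  obtain ⟨t, ht⟩ := isCompact_univ.elim_finite_subcover (fun i => Set.range (𝒰.f i))
    (fun i => (𝒰.f i).isOpenEmbedding.isOpen_range)
    (fun x _ => Set.mem_iUnion.2 (𝒰.exists_eq x |>.elim fun i hi => ⟨i, hi⟩))
  have hdim : ∀ i, ringKrullDim Γ(𝒰.X i, ⊤) ≤ r := by
    intro i
    rw [← PrimeSpectrum.topologicalKrullDim_eq_ringKrullDim]
    refine le_trans (le_of_eq ?_) (le_trans (Topology.IsInducing.topologicalKrullDim_le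
      (f := (𝒰.f i)) (𝒰.f i).isOpenEmbedding.isInducing) hr)
    exact IsHomeomorph.topologicalKrullDim_eq _ (Scheme.Hom.homeomorph (𝒰.X i).isoSpec.inv).isHomeomorph
  haveI : ∀ i, Algebra.FiniteType ℤ Γ(𝒰.X i, ⊤) := fun i => finiteType_sections (𝒰.f i ≫ f)
  have hb : ∀ i, ∃ p₀ c : ℕ, ∀ (p : ℕ) (F : Type u) [Field F] [Finite F] [CharP F p],
      (p₀ ≤ p → Bound Γ(𝒰.X i, ⊤) F c (r - 1) ∧ (r = 0 → IsEmpty (Γ(𝒰.X i, ⊤) →+* F))) ∧
        Bound Γ(𝒰.X i, ⊤) F c r := fun i => exists_bound _ r (hdim i)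
  choose p₀ c hc using hb
  refine ⟨t.sup p₀, ∑ i ∈ t, c i, fun p F _ _ _ => ?_⟩
  let enc : ∀ i, (Spec (CommRingCat.of F) ⟶ 𝒰.X i) → (Γ(𝒰.X i, ⊤) →+* F) := fun i g =>
    (Spec.preimage (g ≫ (𝒰.X i).isoSpec.hom)).hom
  have henc : ∀ i, Function.Injective (enc i) := by
    intro i g g' h
    rw [← cancel_mono (𝒰.X i).isoSpec.hom, ← Spec.map_preimage (g ≫ _), ← Spec.map_preimage (g' ≫ _)]
    exact congrArg Spec.map (CommRingCat.hom_ext h)
  let glue : (Σ i : t, (Spec (CommRingCat.of F) ⟶ 𝒰.X i.1)) → (Spec (CommRingCat.of F) ⟶ X) :=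
    fun ig => ig.2 ≫ 𝒰.f ig.1.1
  have hglue : Function.Surjective glue := by
    intro g
    obtain ⟨i, hit, hi⟩ := Set.mem_iUnion₂.1 (ht (Set.mem_univ (g (IsLocalRing.closedPoint F))))
    refine ⟨⟨⟨i, hit⟩, IsOpenImmersion.lift (𝒰.f i) g ?_⟩, IsOpenImmersion.lift_fac _ _ _⟩
    rintro _ ⟨y, rfl⟩
    rwa [Subsingleton.elim y (IsLocalRing.closedPoint F)]
  have hfin : ∀ i, Finite (Spec (CommRingCat.of F) ⟶ 𝒰.X i) := fun i =>
    haveI := (hc i p F).2.1
    Finite.of_injective _ (henc i)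
  have hcard : ∀ (e : ℕ), (∀ i ∈ t, Nat.card (Γ(𝒰.X i, ⊤) →+* F) ≤ c i * Nat.card F ^ e) →
      Nat.card (Spec (CommRingCat.of F) ⟶ X) ≤ (∑ i ∈ t, c i) * Nat.card F ^ e := by
    intro e he
    refine (Nat.card_le_card_of_surjective _ hglue).trans ?_
    rw [Nat.card_sigma, Finset.sum_mul,
      ← Finset.sum_coe_sort t fun i => c i * Nat.card F ^ e]
    refine Finset.sum_le_sum fun i _ => ?_
    haveI := (hc i.1 p F).2.1
    exact (Nat.card_le_card_of_injective _ (henc i.1)).trans (he i.1 i.2)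
  refine ⟨Finite.of_surjective _ hglue, fun h => ⟨hcard _ fun i hi =>
    ((hc i p F).1 ((Finset.le_sup hi).trans h)).1.2, fun hr0 => ⟨fun g => ?_⟩⟩, hcard _ fun i _ => (hc i p F).2.2⟩
  obtain ⟨⟨i, gi⟩, -⟩ := hglue g
  exact (((hc i.1 p F).1 ((Finset.le_sup i.2).trans h)).2 hr0).false (enc i.1 gi)

end LeadZeta
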