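import Groth.Prelude.Def_W4c1zetahwZeta
import Groth.Agent.Lead.Zeta.SchemeCount
import Groth.Agent.Lead.Zeta.Euler
import Mathlib.AlgebraicGeometry.Morphisms.ClosedImmersion
import Mathlib.AlgebraicGeometry.Morphisms.Affine
import Mathlib.AlgebraicGeometry.Morphisms.FinitePresentation
import Mathlib.FieldTheory.Finite.GaloisField
import Mathlib.Analysis.PSeries
import Mathlib.Analysis.SpecialFunctions.Pow.Complex
import Mathlib.NumberTheory.LSeries.Convergence

/-! The Dirichlet series of an arithmetic scheme in `re s > dim`. -/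

set_option autoImplicit false

universe u

open CategoryTheory AlgebraicGeometry

noncomputable section

namespace LeadZeta

variable {X : Scheme.{u}}

lemma finite_residueField (f : X ⟶ Spec (CommRingCat.of (ULift.{u} ℤ))) [LocallyOfFiniteType f]
    {x : X} (hx : IsClosed ({x} : Set X)) : Finite (X.residueField x) := by
  haveI : IsClosedImmersion (X.fromSpecResidueField x) := isClosed_singleton_iff_isClosedImmersion.1 hx
  haveI h1 := finiteType_sections (X.fromSpecResidueField x ≫ f)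
  let e := (Scheme.ΓSpecIso (X.residueField x)).commRingCatIsoToRingEquiv
  haveI h2 : Algebra.FiniteType ℤ (X.residueField x) :=
    Algebra.FiniteType.of_surjective e.toRingHom.toIntAlgHom e.surjective
  haveI := isJacobsonRing_int
  haveI : Module.Finite ℤ (X.residueField x) := finite_of_finite_type_of_isJacobsonRing ℤ _
  have hchar : ∃ p : ℕ, p ≠ 0 ∧ (p : X.residueField x) = 0 := by
    by_contra! hne
    refine Int.not_isField (isField_of_isIntegral_of_isField (R := ℤ) (S := X.residueField x) ?_ (Field.toIsField _))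
    refine (injective_iff_map_eq_zero _).2 fun z hz => ?_
    by_contra hz0
    refine hne z.natAbs (Int.natAbs_pos.2 hz0).ne' ?_
    rcases Int.natAbs_eq z with h | h <;> rw [h] at hz <;> simpa using hz
  obtain ⟨p, hp0, hp⟩ := hchar
  obtain ⟨n, g, hg⟩ := Module.Finite.exists_fin' ℤ (X.residueField x)
  refine Finite.of_surjective (fun v : Fin n → Fin p => g fun i => ((v i : ℕ) : ℤ)) fun y => ?_
  obtain ⟨w, rfl⟩ := hg y
  refine ⟨fun i => ⟨((w i) % (p : ℤ)).toNat, by
    have := Int.emod_lt_of_pos (w i) (show (0 : ℤ) < p by omega)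
    have := Int.emod_nonneg (w i) (show (p : ℤ) ≠ 0 by omega)
    omega⟩, ?_⟩
  rw [← sub_eq_zero, ← map_sub]
  rw [show ((fun i => (((⟨((w i) % (p : ℤ)).toNat, _⟩ : Fin p) : ℕ) : ℤ)) - w) =
      (p : ℤ) • (fun i => -((w i) / (p : ℤ))) from funext fun i => by
    simp only [Pi.sub_apply, Pi.smul_apply, smul_eq_mul,
      Int.toNat_of_nonneg (Int.emod_nonneg (w i) (show (p : ℤ) ≠ 0 by omega))]
    rw [Int.emod_def]
    ring]
  rw [map_smul, zsmul_eq_mul, Int.cast_natCast, hp, zero_mul]

/-- the closed points -/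
abbrev Cl (X : Scheme.{u}) : Type u := {x : X // IsClosed ({x} : Set X)}

/-- the norm of a closed point -/
abbrev nrm (x : Cl X) : ℕ := Nat.card (X.residueField x.1)

variable (f : X ⟶ Spec (CommRingCat.of (ULift.{u} ℤ))) [LocallyOfFiniteType f]

include f in
lemma two_le_nrm (x : Cl X) : 2 ≤ nrm x := by
  haveI := finite_residueField f x.2
  exact Finite.one_lt_card

include f in
open scoped Classical in
lemma exists_count_bound [QuasiCompact f] (r : ℕ) (hr : topologicalKrullDim X ≤ r) :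
    ∃ p₀ c : ℕ, ∀ n : ℕ, {x : Cl X | nrm x = n}.Finite ∧
      ∀ σ : ℝ, ({x : Cl X | nrm x = n}.ncard : ℝ) * (n : ℝ) ^ (-σ) ≤
        (c : ℝ) * (n : ℝ) ^ ((r : ℝ) - 1 - σ) +
          (if ∃ p < p₀, p.Prime ∧ ∃ m, 1 ≤ m ∧ n = p ^ m then (c : ℝ) * (n : ℝ) ^ ((r : ℝ) - σ) else 0) := by
  classical
  obtain ⟨p₀, c, hc⟩ := exists_bound_scheme f r hr
  refine ⟨p₀, c, fun n => ?_⟩
  rcases Set.eq_empty_or_nonempty {x : Cl X | nrm x = n} with he | ⟨x₀, hx₀⟩
  · refine ⟨he ▸ Set.finite_empty, fun σ => ?_⟩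
    rw [he, Set.ncard_empty, Nat.cast_zero, zero_mul]
    split_ifs <;> positivity
  haveI := finite_residueField f x₀.2
  haveI := Fintype.ofFinite (X.residueField x₀.1)
  let F := X.residueField x₀.1
  obtain ⟨p, hp⟩ := CharP.exists F
  haveI := hp
  obtain ⟨m, hpp, hcard⟩ := FiniteField.card F p
  have hn : n = p ^ (m : ℕ) := by rw [← hx₀, nrm, Nat.card_eq_fintype_card, hcard]
  obtain ⟨hfin, h1, h2⟩ := hc p F
  haveI := hfin
  have hnF : Nat.card F = n := hx₀
  have hiso : ∀ x : {x : Cl X | nrm x = n}, Nonempty (X.residueField x.1.1 ≃+* F) := fun x => by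
    haveI := finite_residueField f x.1.2
    haveI := Fintype.ofFinite (X.residueField x.1.1)
    exact ⟨FiniteField.ringEquivOfCardEq (by rw [← Nat.card_eq_fintype_card, ← Nat.card_eq_fintype_card]; exact x.2.trans hx₀.symm)⟩
  let Φ : {x : Cl X | nrm x = n} → (Spec (CommRingCat.of F) ⟶ X) := fun x =>
    Spec.map (CommRingCat.ofHom (hiso x).some.toRingHom) ≫ X.fromSpecResidueField x.1.1
  have hΦ : Function.Injective Φ := by
    intro x y h
    have := congrArg (fun g : Spec (CommRingCat.of F) ⟶ X => g (IsLocalRing.closedPoint F)) h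
    simp only [Φ, Scheme.Hom.comp_apply, Scheme.fromSpecResidueField_apply] at this
    exact Subtype.ext (Subtype.ext ((Scheme.fromSpecResidueField_apply _ _).symm.trans (this.trans (Scheme.fromSpecResidueField_apply _ _))))
  haveI hFS : Finite {x : Cl X | nrm x = n} := Finite.of_injective Φ hΦ
  refine ⟨Set.toFinite _, fun σ => ?_⟩
  have hle : ({x : Cl X | nrm x = n}.ncard : ℝ) ≤ (Nat.card (Spec (CommRingCat.of F) ⟶ X) : ℕ) := by
    rw [← Nat.card_coe_set_eq]
    exact_mod_cast Nat.card_le_card_of_injective Φ hΦ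
  have hn0 : (0 : ℝ) < n := by rw [hn]; exact_mod_cast pow_pos hpp.pos _
  rw [hnF] at h1 h2
  rcases le_or_gt p₀ p with h | h
  · obtain ⟨hb, h0⟩ := h1 h
    refine le_add_of_le_of_nonneg ?_ (by split_ifs <;> positivity)
    rcases Nat.eq_zero_or_pos r with hr0 | hr0
    · exact absurd (h0 hr0) fun he => he.false (Φ ⟨x₀, hx₀⟩)
    · rw [sub_sub, show ((r : ℝ) - (1 + σ)) = ((r - 1 : ℕ) : ℝ) + -σ by
        rw [Nat.cast_sub (show 1 ≤ r from hr0)]; push_cast; ring, Real.rpow_add hn0, Real.rpow_natCast, ← mul_assoc]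
      refine mul_le_mul_of_nonneg_right (hle.trans ?_) (Real.rpow_nonneg hn0.le _)
      exact_mod_cast hb
  · rw [if_pos ⟨p, h, hpp, m, m.pos, hn⟩]
    refine le_add_of_nonneg_of_le (by positivity) ?_
    rw [sub_eq_add_neg, Real.rpow_add hn0, Real.rpow_natCast, ← mul_assoc]
    refine mul_le_mul_of_nonneg_right (hle.trans ?_) (Real.rpow_nonneg hn0.le _)
    exact_mod_cast h2

open scoped Classical in
lemma summable_primePow_rpow {p : ℕ} (hp : p.Prime) (e : ℝ) (he : e < 0) :
    Summable fun n : ℕ => if ∃ m, 1 ≤ m ∧ n = p ^ m then (n : ℝ) ^ e else 0 := by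
  classical
  refine ((Nat.pow_right_injective hp.two_le).summable_iff ?_).1 ?_
  · intro n hn
    rw [if_neg]
    rintro ⟨m, -, rfl⟩
    exact hn ⟨m, rfl⟩
  · have hp1 : (1 : ℝ) < p := by exact_mod_cast hp.one_lt
    refine Summable.of_nonneg_of_le (fun m => by simp only [Function.comp_apply]; split_ifs <;> positivity)
      (fun m => ?_) (summable_geometric_of_lt_one (Real.rpow_nonneg (by linarith) e)
        (Real.rpow_lt_one_of_one_lt_of_neg hp1 he))
    simp only [Function.comp_apply]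
    have hh : (((p ^ m : ℕ)) : ℝ) ^ e = ((p : ℝ) ^ e) ^ m := by
      push_cast
      rw [← Real.rpow_natCast_mul (by linarith), mul_comm, Real.rpow_mul_natCast (by linarith)]
    split_ifs
    · exact hh.le
    · positivity

include f in
theorem summable_nrm [QuasiCompact f] (r : ℕ) (hr : topologicalKrullDim X ≤ r) (σ : ℝ) (hσ : (r : ℝ) < σ) :
    Summable fun x : Cl X => (nrm x : ℝ) ^ (-σ) := by
  classical
  obtain ⟨p₀, c, hc⟩ := exists_count_bound f r hr
  rw [← (Equiv.sigmaFiberEquiv (nrm (X := X))).summable_iff]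
  refine (summable_sigma_of_nonneg fun q => Real.rpow_nonneg (Nat.cast_nonneg _) _).2 ⟨fun n => ?_, ?_⟩
  · haveI : Finite {x : Cl X // nrm x = n} := (hc n).1.to_subtype
    exact Summable.of_finite
  have h1 : Summable fun n : ℕ => (c : ℝ) * (n : ℝ) ^ ((r : ℝ) - 1 - σ) :=
    (Real.summable_nat_rpow.2 (by linarith)).mul_left _
  have h2 : Summable fun n : ℕ =>
      if ∃ p < p₀, p.Prime ∧ ∃ m, 1 ≤ m ∧ n = p ^ m then (c : ℝ) * (n : ℝ) ^ ((r : ℝ) - σ) else 0 := by
    have h3 : Summable fun n : ℕ => ∑ p ∈ (Finset.range p₀).filter Nat.Prime,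
        (c : ℝ) * (if ∃ m, 1 ≤ m ∧ n = p ^ m then (n : ℝ) ^ ((r : ℝ) - σ) else 0) :=
      summable_sum fun p hp => (summable_primePow_rpow (Finset.mem_filter.1 hp).2 _ (by linarith)).mul_left _
    refine h3.of_nonneg_of_le (fun n => by split_ifs <;> positivity) fun n => ?_
    split_ifs with h
    · obtain ⟨p, hp, hpp, hm⟩ := h
      refine le_trans (le_of_eq (by rw [if_pos hm])) (Finset.single_le_sum
        (f := fun p => (c : ℝ) * if ∃ m, 1 ≤ m ∧ n = p ^ m then (n : ℝ) ^ ((r : ℝ) - σ) else 0)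
        (fun q _ => mul_nonneg (Nat.cast_nonneg _) (by split_ifs <;> positivity))
        (Finset.mem_filter.2 ⟨Finset.mem_range.2 hp, hpp⟩))
    · exact Finset.sum_nonneg fun q _ => mul_nonneg (Nat.cast_nonneg _) (by split_ifs <;> positivity)
  refine (h1.add h2).of_nonneg_of_le (fun n => tsum_nonneg fun x => Real.rpow_nonneg (Nat.cast_nonneg _) _) fun n => ?_
  refine le_trans (le_of_eq ?_) ((hc n).2 σ)
  have : ∀ x : {x : Cl X // nrm x = n},
      (nrm ((Equiv.sigmaFiberEquiv (nrm (X := X))) ⟨n, x⟩) : ℝ) ^ (-σ) = (n : ℝ) ^ (-σ) := fun x => by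
    simp [x.2]
  simp only [Function.comp_apply, this, tsum_const, nsmul_eq_mul]
  congr 1

lemma natCast_pow_cpow (b m : ℕ) (z : ℂ) : ((b ^ m : ℕ) : ℂ) ^ z = ((b : ℂ) ^ z) ^ m := by
  induction m with
  | zero => simp [Complex.one_cpow]
  | succ k ih => rw [pow_succ, pow_succ, Nat.cast_mul, Complex.natCast_mul_natCast_cpow, ih]

/-- cycles of norm `n` -/
def cycleEquiv (n : ℕ) :
    { α : X →₀ ℕ // (∀ x ∈ α.support, IsClosed ({x} : Set X)) ∧
      α.prod (fun x m => Nat.card (X.residueField x) ^ m) = n } ≃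
      { a : Cl X →₀ ℕ // mon nrm a = n } :=
  (Equiv.subtypeSubtypeEquivSubtypeInter (fun α : X →₀ ℕ => ∀ x ∈ α.support, IsClosed ({x} : Set X))
    (fun α => α.prod (fun x m => Nat.card (X.residueField x) ^ m) = n)).symm.trans
  ((Finsupp.restrictSupportEquiv {x : X | IsClosed ({x} : Set X)} ℕ).subtypeEquiv fun α => by
    rw [show (Finsupp.restrictSupportEquiv {x : X | IsClosed ({x} : Set X)} ℕ α) =
      α.1.subtypeDomain (fun x => IsClosed ({x} : Set X)) from rfl]
    exact Iff.of_eq (congrArg (· = n)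
      (Finsupp.prod_subtypeDomain_index (h := fun x m => Nat.card (X.residueField x) ^ m) α.2).symm))

include f in
theorem lseries_props [QuasiCompact f] (r : ℕ) (hr : topologicalKrullDim X ≤ r) (s : ℂ) (hs : (r : ℝ) < s.re) :
    LSeriesSummable (Zeta.arithCoeff X) s ∧ LSeries (Zeta.arithCoeff X) s ≠ 0 := by
  classical
  let g : Cl X → ℂ := fun x => (nrm x : ℂ) ^ (-s)
  have hspos : 0 < s.re := lt_of_le_of_lt (Nat.cast_nonneg r) hs
  have hnorm : ∀ x, ‖g x‖ = (nrm x : ℝ) ^ (-s.re) := fun x => by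
    simp only [g]
    rw [Complex.norm_natCast_cpow_of_pos (by have := two_le_nrm f x; omega), Complex.neg_re]
  have h1 : ∀ x, ‖g x‖ < 1 := fun x => by
    rw [hnorm]
    exact Real.rpow_lt_one_of_one_lt_of_neg (by exact_mod_cast two_le_nrm f x) (by linarith)
  have hsum : Summable fun x => ‖g x‖ := by simpa only [hnorm] using summable_nrm f r hr s.re hs
  have hg : ∀ a : Cl X →₀ ℕ, mon g a = ((mon nrm a : ℕ) : ℂ) ^ (-s) := fun a => by
    induction a using Finsupp.induction with
    | zero => simp [mon_zero, Complex.one_cpow]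
    | single_add x m a hx hm ih =>
      have hd : ∀ {R : Type} [CommMonoid R] (h : Cl X → R), mon h (Finsupp.single x m + a) = h x ^ m * mon h a := by
        intro R _ h
        rw [mon, Finsupp.prod_add_index' (fun y => pow_zero _) (fun y b c => pow_add _ b c),
          Finsupp.prod_single_index (h := fun y k => h y ^ k) (pow_zero _)]
        rfl
      rw [hd, hd, ih, Nat.cast_mul, Complex.natCast_mul_natCast_cpow]
      congr 1
      exact (natCast_pow_cpow _ m _).symm
  have hS := summable_mon g h1 hsum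
  have hpos : ∀ a : Cl X →₀ ℕ, mon nrm a ≠ 0 := fun a => Finset.prod_ne_zero_iff.2 fun x _ =>
    pow_ne_zero _ (by have := two_le_nrm f x; omega)
  have hfib : HasSum (fun q : (Σ n : ℕ, {a : Cl X →₀ ℕ // mon nrm a = n}) =>
      mon g q.2.1) (∑' a : Cl X →₀ ℕ, mon g a) :=
    (Equiv.sigmaFiberEquiv (mon (nrm (X := X)))).hasSum_iff.2 hS.of_norm.hasSum
  have hterm : ∀ n : ℕ, HasSum (fun a : {a : Cl X →₀ ℕ // mon nrm a = n} => mon g a.1)
      (LSeries.term (Zeta.arithCoeff X) s n) := by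
    intro n
    rcases eq_or_ne n 0 with rfl | hn
    · haveI : IsEmpty {a : Cl X →₀ ℕ // mon nrm a = 0} := ⟨fun a => hpos a.1 a.2⟩
      rw [LSeries.term_zero]
      exact hasSum_empty
    have hc : ∀ a : {a : Cl X →₀ ℕ // mon nrm a = n}, mon g a.1 = (n : ℂ) ^ (-s) := fun a => by rw [hg, a.2]
    haveI : Finite {a : Cl X →₀ ℕ // mon nrm a = n} := by
      by_contra hinf
      rw [not_finite_iff_infinite] at hinf
      have := (hS.of_norm.comp_injective (Subtype.val_injective (p := fun a => mon nrm a = n))).congr hc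
      exact (Complex.cpow_ne_zero_iff.2 (Or.inl (Nat.cast_ne_zero.2 hn))) ((summable_const_iff _).1 this)
    simp only [hc]
    haveI := Fintype.ofFinite {a : Cl X →₀ ℕ // mon nrm a = n}
    convert hasSum_fintype (fun _ : {a : Cl X →₀ ℕ // mon nrm a = n} => (n : ℂ) ^ (-s)) using 1
    rw [LSeries.term_of_ne_zero hn, Finset.sum_const, nsmul_eq_mul, Zeta.arithCoeff, Zeta.cycleNormCount,
      Nat.card_congr (cycleEquiv n), Finset.card_univ, ← Nat.card_eq_fintype_card, Complex.cpow_neg, div_eq_mul_inv]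
  have hL := hfib.sigma hterm
  refine ⟨hL.summable, ?_⟩
  rw [LSeries, hL.tsum_eq]
  exact tsum_mon_ne_zero g h1 hsum

include f in
theorem main_int [QuasiCompact f] (r : ℕ) (hr : topologicalKrullDim X ≤ r) :
    LSeries.abscissaOfAbsConv (Zeta.arithCoeff X) ≤ (r : ℝ) ∧
      ∀ s : ℂ, (r : ℝ) < s.re → LSeries (Zeta.arithCoeff X) s ≠ 0 :=
  ⟨LSeries.abscissaOfAbsConv_le_of_forall_lt_LSeriesSummable fun y hy =>
    (lseries_props f r hr y (by simpa using hy)).1, fun s hs => (lseries_props f r hr s hs).2⟩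

end LeadZeta
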